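import Groth.Agent.Lichtenbaum.CechPush
import Groth.Agent.CohC3.HMap
import Groth.Agent.CohC3.QuotSections

/-! The edge map `H^p(X, π_*G) → H^p(X', G)`, computed with Čech cocycles. -/

set_option linter.style.haveILetI false
universe u

open CategoryTheory CategoryTheory.Limits AlgebraicGeometry TopologicalSpace Opposite
open Groth.CohBase Groth.Lichtenbaum

namespace Groth.DualMod

variable {X' X : Scheme.{u}} (π : X' ⟶ X) {ι : Type u} [Finite ι] (V : ι → X.Opens) (hcov : ⨆ i, V i = ⊤)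
  [QuasiCompact π] [QuasiSeparated π] [X.IsSeparated]

/-- The Čech resolution upstairs. -/
noncomputable abbrev resUp (G : X'.Modules) : Res X'.Modules :=
  cechRes (preFam π V) G (iSup_preFam π V hcov)

/-- The Čech resolution downstairs. -/
noncomputable abbrev resDown (G : X'.Modules) : Res X.Modules :=
  cechRes V ((Scheme.Modules.pushforward π).obj G) hcov

/-- A cocycle downstairs as one upstairs. -/
noncomputable def cycPush (G : X'.Modules) (p : ℕ) :
    (resDown π V hcov G).Cyc ⊤ p →+ (resUp π V hcov G).Cyc ⊤ p :=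
  AddMonoidHom.mk' (fun z => ⟨(pushCs π V G p z.1 : CsSec (preFam π V) G p ⊤),
      Res.mem_cyc.2 ((mem_cyc_iff π V G p z.1).1 (Res.mem_cyc.1 z.2))⟩)
    fun a b => Subtype.ext ((pushCs π V G p).map_add a.1 b.1)

omit [QuasiCompact π] [QuasiSeparated π] [X.IsSeparated] in
lemma clsTop_eq_zero_of_mem_bd {Y : Scheme.{u}} (R : Res Y.Modules) (p : ℕ) (z : R.Cyc ⊤ p)
    (hz : z.1 ∈ R.Bd ⊤ p) : Res.clsTop R p z = 0 := by
  refine (equivHTop (X := Y.toTopCat) (abSheaf _) p).injective ?_
  refine Eq.trans ?_ (map_zero _).symm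
  refine ((equivHTop (X := Y.toTopCat) (abSheaf _) p).apply_symm_apply _).trans ?_
  cases p with
  | zero => rw [show z = 0 from Subtype.ext (Res.mem_bd_zero.1 hz), map_zero]
  | succ p =>
    obtain ⟨g, hg⟩ := Res.mem_bd_succ.1 hz
    refine Res.cls_eq_zero_of_cobound _ _ _ _ ((Groth.SiteCohomology.AcyclicRes.mem_cobound_succ _ _ _).2
      ⟨Res.toFree _ ⊤ p g, (Res.toFree_comp_d ⊤ p g).trans (congrArg (Res.toFree _ ⊤ (p + 1)) hg)⟩)

variable (hV : ∀ i, IsAffineOpen (V i))
include hV

lemma exists_cyc (G : X'.Modules) [G.IsQuasicoherent] (p : ℕ)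
    (e : Coh.HH X ((Scheme.Modules.pushforward π).obj G) p) :
    ∃ z : (resDown π V hcov G).Cyc ⊤ p, Res.clsTop (resDown π V hcov G) p z = e := by
  obtain ⟨q, rfl⟩ := (Res.hcEquivHHOfAcyclic (acyclic_push π V hcov hV G) p).surjective e
  obtain ⟨z, rfl⟩ := Submodule.Quotient.mk_surjective _ q
  exact ⟨z, (Res.hcEquivHHOfAcyclic_mk _ p z).symm⟩

/-- The edge map, as a function. -/
noncomputable def edgeFun (G : X'.Modules) [G.IsQuasicoherent] (p : ℕ)
    (e : Coh.HH X ((Scheme.Modules.pushforward π).obj G) p) : Coh.HH X' G p :=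
  Res.clsTop (resUp π V hcov G) p (cycPush π V hcov G p (exists_cyc π V hcov hV G p e).choose)

lemma edgeFun_mk (G : X'.Modules) [G.IsQuasicoherent] (p : ℕ) (z : (resDown π V hcov G).Cyc ⊤ p) :
    edgeFun π V hcov hV G p (Res.clsTop (resDown π V hcov G) p z) =
      Res.clsTop (resUp π V hcov G) p (cycPush π V hcov G p z) := by
  have hz := (exists_cyc π V hcov hV G p (Res.clsTop (resDown π V hcov G) p z)).choose_spec
  set z' := (exists_cyc π V hcov hV G p (Res.clsTop (resDown π V hcov G) p z)).choose with hz'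
  change Res.clsTop _ p (cycPush π V hcov G p z') = _
  rw [← sub_eq_zero, ← map_sub, ← map_sub]
  refine clsTop_eq_zero_of_mem_bd _ p _ ((mem_bd_iff π V hcov G p (z' - z).1).1 ?_)
  have h0 : Res.hcEquivHHOfAcyclic (acyclic_push π V hcov hV G) p (Submodule.Quotient.mk (z' - z)) = 0 := by
    rw [Res.hcEquivHHOfAcyclic_mk, map_sub, sub_eq_zero]
    exact hz
  have h1 := (Submodule.Quotient.mk_eq_zero _).1 ((LinearEquiv.map_eq_zero_iff _).1 h0)
  exact h1

/-- The edge map. -/
noncomputable def edge (G : X'.Modules) [G.IsQuasicoherent] (p : ℕ) :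
    Coh.HH X ((Scheme.Modules.pushforward π).obj G) p →+ Coh.HH X' G p :=
  AddMonoidHom.mk' (edgeFun π V hcov hV G p) fun a b => by
    obtain ⟨z, rfl⟩ := exists_cyc π V hcov hV G p a
    obtain ⟨w, rfl⟩ := exists_cyc π V hcov hV G p b
    refine (congrArg (edgeFun π V hcov hV G p) ((Res.clsTop (resDown π V hcov G) p).map_add z w).symm).trans ?_
    refine (edgeFun_mk π V hcov hV G p (z + w)).trans ?_
    rw [edgeFun_mk, edgeFun_mk]
    exact (congrArg (Res.clsTop (resUp π V hcov G) p) ((cycPush π V hcov G p).map_add z w)).trans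
      ((Res.clsTop (resUp π V hcov G) p).map_add _ _)

lemma edge_mk (G : X'.Modules) [G.IsQuasicoherent] (p : ℕ) (z : (resDown π V hcov G).Cyc ⊤ p) :
    edge π V hcov hV G p (Res.clsTop (resDown π V hcov G) p z) =
      Res.clsTop (resUp π V hcov G) p (cycPush π V hcov G p z) :=
  edgeFun_mk π V hcov hV G p z

/-- The edge map is natural. -/
theorem edge_natural {G G' : X'.Modules} [G.IsQuasicoherent] [G'.IsQuasicoherent] (φ : G ⟶ G') (p : ℕ)
    (e : Coh.HH X ((Scheme.Modules.pushforward π).obj G) p) :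
    edge π V hcov hV G' p (Sheaf.H.map ((toAbF X).map ((Scheme.Modules.pushforward π).map φ)) p e) =
      Sheaf.H.map ((toAbF X').map φ) p (edge π V hcov hV G p e) := by
  obtain ⟨z, rfl⟩ := exists_cyc π V hcov hV G p e
  let ψ := cechResMap V hcov ((Scheme.Modules.pushforward π).map φ)
  let w : (resDown π V hcov G').Cyc ⊤ p := ⟨(ψ.f p).app ⊤ z.1, by
    refine Res.mem_cyc.2 ((mem_cyc_iff π V G' p _).2 ?_)
    have h1 := Res.mem_cyc.1 (cycPush π V hcov G p z).2
    have e1 := pushCs_csMap π V φ p z.1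
    refine (congrArg (csd (preFam π V) G' p ⊤) e1).trans ?_
    refine (congr($(((cechResMap (preFam π V) (iSup_preFam π V hcov) φ).comm p).symm).app ⊤
      (cycPush π V hcov G p z).1)).trans ?_
    refine (congrArg ((cechResMap (preFam π V) (iSup_preFam π V hcov) φ).f (p + 1) |>.app ⊤) h1).trans ?_
    exact map_zero _⟩
  rw [show Sheaf.H.map ((toAbF X).map ((Scheme.Modules.pushforward π).map φ)) p
      (Res.clsTop (resDown π V hcov G) p z) = Res.clsTop (resDown π V hcov G') p w from
      (Res.clsTop_map ψ p z w rfl).symm, edge_mk, edge_mk]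
  exact Res.clsTop_map (cechResMap (preFam π V) (iSup_preFam π V hcov) φ) p _ _ (pushCs_csMap π V φ p z.1)

variable (G : ℕ → X'.Modules) (θ : ∀ t, G (t + 1) ⟶ G t)

/-- A killing chain kills the kernel of the edge map. -/
theorem edge_kill (p : ℕ) [(G p).IsQuasicoherent] [(G 0).IsQuasicoherent]
    (h : ChainKills (preFam π V) G θ p) (e : Coh.HH X ((Scheme.Modules.pushforward π).obj (G p)) p)
    (he : edge π V hcov hV (G p) p e = 0) :
    Sheaf.H.map ((toAbF X).map ((Scheme.Modules.pushforward π).map (chainMap G θ p))) p e = 0 := by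
  obtain ⟨z, rfl⟩ := exists_cyc π V hcov hV (G p) p e
  rw [edge_mk] at he
  have hb := mem_bd_of_clsTop_eq_zero (preFam π V) (iSup_preFam π V hcov) G θ p h _ he
  let φ := cechResMap V hcov ((Scheme.Modules.pushforward π).map (chainMap G θ p))
  let w : Γ((resDown π V hcov (G 0)).A p, ⊤) := (φ.f p).app ⊤ z.1
  have hw : w ∈ (resDown π V hcov (G 0)).Bd ⊤ p := by
    refine (mem_bd_iff π V hcov (G 0) p w).2 ?_
    have e := pushCs_csMap π V (chainMap G θ p) p z.1
    exact (e.symm ▸ hb : _)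
  exact (Res.clsTop_map φ p z ⟨w, Res.bd_le_cyc ⊤ p hw⟩ rfl).symm.trans (clsTop_eq_zero_of_mem_bd _ p _ hw)

/-- The image of a killing chain lies in the image of the edge map. -/
theorem exists_edge_eq (p : ℕ) [(G 0).IsQuasicoherent] (h : ChainKills (preFam π V) G θ p)
    (x : Coh.HH X' (G p) p) :
    ∃ e, edge π V hcov hV (G 0) p e = Sheaf.H.map ((toAbF X').map (chainMap G θ p)) p x := by
  obtain ⟨z, hz⟩ := exists_clsTop_eq (preFam π V) (iSup_preFam π V hcov) G θ p h x
  let w : (resDown π V hcov (G 0)).Cyc ⊤ p :=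
    ⟨((pushCs π V (G 0) p).symm z.1 : CsSec V _ p ⊤), Res.mem_cyc.2 ((mem_cyc_iff π V (G 0) p _).2
      ((congrArg (csd (preFam π V) (G 0) p ⊤)
        ((pushCs π V (G 0) p).apply_symm_apply (show CsSec (preFam π V) (G 0) p ⊤ from z.1))).trans
          (Res.mem_cyc.1 z.2)))⟩
  refine ⟨Res.clsTop _ p w, ?_⟩
  rw [edge_mk, ← hz]
  congr 1
  exact Subtype.ext ((pushCs π V (G 0) p).apply_symm_apply _)

variable {A : Type u} [CommRing A] [X.Over (Spec (CommRingCat.of A))] [X'.Over (Spec (CommRingCat.of A))]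
  (hπ : π ≫ (X ↘ Spec (CommRingCat.of A)) = X' ↘ Spec (CommRingCat.of A))

/-- The edge map is linear over the base. -/
noncomputable def edgeₗ (G : X'.Modules) [G.IsQuasicoherent] (p : ℕ) :
    Coh.HH X ((Scheme.Modules.pushforward π).obj G) p →ₗ[A] Coh.HH X' G p :=
  { edge π V hcov hV G p with
    map_smul' := fun a e => by
      change edge π V hcov hV G p (a • e) = a • edge π V hcov hV G p e
      rw [← CohC3.hmap_smulMod, ← CohC3.hmap_smulMod, ← CohC3.pushforward_map_smulMod hπ]
      exact edge_natural π V hcov hV _ p e }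

lemma edgeₗ_natural {G G' : X'.Modules} [G.IsQuasicoherent] [G'.IsQuasicoherent] (φ : G ⟶ G') (p : ℕ)
    (e : Coh.HH X ((Scheme.Modules.pushforward π).obj G) p) :
    edgeₗ π V hcov hV hπ G' p (CohC3.hmap A ((Scheme.Modules.pushforward π).map φ) p e) =
      CohC3.hmap A φ p (edgeₗ π V hcov hV hπ G p e) :=
  edge_natural π V hcov hV φ p e

end Groth.DualMod
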