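import Groth.Agent.DualMod.Rep
import Groth.Agent.DualMod.Edge
import Groth.Agent.Lichtenbaum.Step
import Groth.Agent.CohTwo.HomNhd
import Groth.Agent.S9515
import Groth.Agent.S9516

/-! Comparison of dual pairs along a proper morphism. -/

set_option linter.style.haveILetI false
universe u

open CategoryTheory CategoryTheory.Limits AlgebraicGeometry TopologicalSpace Opposite
open Groth.CohBase Groth.Lichtenbaum

namespace Groth.DualMod

variable {X' X : Scheme.{u}}

/-- Sections of a map extending a morphism given on an open. -/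
lemma app_of_restrict_eq {N G F : X.Modules} (ι : N ⟶ G) (ψ : N ⟶ F) {U : X.Opens}
    (φ : G.restrict U.ι ⟶ F.restrict U.ι)
    (h : (Scheme.Modules.restrictFunctor U.ι).map ψ = (Scheme.Modules.restrictFunctor U.ι).map ι ≫ φ)
    {W : X.Opens} (hW : W ≤ U) (w : Γ(N, W)) :
    ψ.app W w = CohTwo.appOn φ hW (ι.app W w) := by
  have hle : W ≤ U.ι ''ᵁ (U.ι ⁻¹ᵁ W) := by
    rw [Scheme.Hom.image_preimage_eq_opensRange_inf, Scheme.Opens.opensRange_ι]
    exact le_inf hW le_rfl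
  let z : Γ(N.restrict U.ι, U.ι ⁻¹ᵁ W) := CohTwo.res N (U.ι.image_preimage_le W) w
  have h1 := congrArg (CohTwo.res F hle) (congr(($h).app (U.ι ⁻¹ᵁ W) z))
  have hl : CohTwo.res F hle (ψ.app (U.ι ''ᵁ (U.ι ⁻¹ᵁ W))
      (CohTwo.res N (U.ι.image_preimage_le W) w)) = ψ.app W w := by
    rw [CohTwo.app_res, CohTwo.res_res, CohTwo.res_rfl]
  refine hl.symm.trans (h1.trans ?_)
  unfold CohTwo.appOn
  rw [← CohTwo.app_res]
  rfl

/-- A map of quasi-coherent modules surjective on the stalks over an affine open is surjective on its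
sections. -/
lemma app_surjective_of_stalk {A B : X.Modules} [A.IsQuasicoherent] [B.IsQuasicoherent] (φ : A ⟶ B)
    {U : X.Opens} (hU : IsAffineOpen U) (h : ∀ x ∈ U, Function.Surjective ((QCohMod.stalk x).map φ)) :
    Function.Surjective (φ.app U) := by
  haveI := QCohMod.isQCoh_cokernel φ
  intro b
  obtain ⟨a, ha⟩ := QCohMod.exists_app_eq_of_exact
    (S := ShortComplex.mk φ (cokernel.π φ) (cokernel.condition φ))
    (ShortComplex.exact_of_g_is_cokernel _ (cokernelIsCokernel φ)) hU b (by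
      refine TopCat.Presheaf.section_ext ⟨(cokernel φ).presheaf, (cokernel φ).isSheaf⟩ U _ _ fun x hx => ?_
      have hs := (CohTwo.notMem_support_iff _ x).1 (CohTwo.notMem_support_cokernel φ x (h x hx))
      exact @Subsingleton.elim _ hs _ _)
  exact ⟨a, ha⟩

/-- A morphism out of a quasi-coherent module killing the sections over an affine open restricts to
zero on it. -/
lemma restrict_eq_zero {A B : X.Modules} [A.IsQuasicoherent] (φ : A ⟶ B) {U : X.Opens} (hU : IsAffineOpen U)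
    (h : ∀ a, φ.app U a = 0) : (Scheme.Modules.restrictFunctor U.ι).map φ = 0 := by
  haveI : ((Scheme.Modules.restrictFunctor U.ι).obj A).IsQuasicoherent :=
    Scheme.Modules.isQuasicoherent_restrictFunctor U.ι A
  haveI : IsAffine U.toScheme := hU
  refine CohTwo.eq_zero_of_affine_cover _ (fun _ : Unit => (⊤ : U.toScheme.Opens))
    (fun _ => isAffineOpen_top _) (fun x => ⟨(), trivial⟩) fun _ s => ?_
  have key : ∀ W : X.Opens, W = U → ∀ s : Γ(A, W), φ.app W s = 0 := by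
    rintro W rfl s
    exact h s
  exact key _ U.ι_image_top s

variable {k : Type u} [Field k] [X.Over (Spec (CommRingCat.of k))] [X'.Over (Spec (CommRingCat.of k))]
  (π : X' ⟶ X) [IsProper π] (hπ : π ≫ (X ↘ Spec (CommRingCat.of k)) = X' ↘ Spec (CommRingCat.of k))
  [AlgebraicGeometry.IsNoetherian X] [X.IsSeparated] [AlgebraicGeometry.IsNoetherian X']
  {ι : Type u} [Finite ι] (V : ι → X.Opens) (hV : ∀ i, IsAffineOpen (V i)) (hcov : ⨆ i, V i = ⊤)
  {d : ℕ} {ω : X.Modules} {t : Coh.HH X ω d →ₗ[k] k} {ω' : X'.Modules} {t' : Coh.HH X' ω' d →ₗ[k] k}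

/-- The trace of a proper morphism on dual pairs. -/
def IsTrace [ω'.IsQuasicoherent] (t : Coh.HH X ω d →ₗ[k] k) (t' : Coh.HH X' ω' d →ₗ[k] k)
    (τ : (Scheme.Modules.pushforward π).obj ω' ⟶ ω) : Prop :=
  ∀ e, t (CohC3.hmap k τ d e) = t' (edgeₗ π V hcov hV hπ ω' d e)

/-- The trace exists. -/
theorem exists_trace [ω'.IsQuasicoherent] (hω : IsDualPair k ω t) :
    ∃ τ, IsTrace π hπ V hV hcov t t' τ := by
  obtain ⟨τ, hτ, -⟩ := hω.existsUnique _ (QCohMod.isQCoh_pushforward ω' π)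
    (t'.comp (edgeₗ π V hcov hV hπ ω' d))
  exact ⟨τ, fun e => (hτ e).symm⟩

variable {D : X.Opens} (hD : IsAffineOpen D)
  (hW : ∀ D' : X.Opens, IsAffineOpen D' → D' ≤ D → IsAffineOpen (π ⁻¹ᵁ D'))

set_option maxHeartbeats 1600000 in
include hπ hV hcov hD hW in
/-- Over an open where the morphism is affine, a section upstairs is detected by the traces of its
multiples. -/
theorem eq_zero_of_trace [ω'.IsQuasicoherent] (hω' : IsDualPair k ω' t')
    {τ : (Scheme.Modules.pushforward π).obj ω' ⟶ ω} (hτ : IsTrace π hπ V hV hcov t t' τ) (hωq : Coh.IsQCoh ω)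
    (s : Γ(ω', π ⁻¹ᵁ D))
    (h : ∀ a : Γ(X', π ⁻¹ᵁ D), τ.app D (show Γ((Scheme.Modules.pushforward π).obj ω', D) from a • s) = 0) :
    s = 0 := by
  have hD' : IsAffineOpen (π ⁻¹ᵁ D) := hW D hD le_rfl
  let O := Coh.structureModule X'
  have hO : Coh.IsCoh O := QCohMod.isCoh_unit
  haveI := hO.1
  obtain ⟨φD, hφD⟩ := CohTwo.exists_hom_of_sections O ω' hD'
    { toFun := fun a : Γ(O, π ⁻¹ᵁ D) => (show Γ(X', π ⁻¹ᵁ D) from a) • s
      map_add' := fun a b => add_smul (show Γ(X', π ⁻¹ᵁ D) from a) _ s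
      map_smul' := fun r a => mul_smul r (show Γ(X', π ⁻¹ᵁ D) from a) s }
  let I := CohTwo.complIdeal D
  have hI' : ((π ⁻¹ᵁ D : X'.Opens) : Set X') = ((I.comap π).support : Set X')ᶜ := by
    rw [Scheme.IdealSheafData.support_comap]
    ext x
    exact Set.ext_iff.1 (CohTwo.coe_compl_support_complIdeal D) (π x)
  obtain ⟨n, ψ, hψ⟩ := Groth.Agent.S9515.result X' ω' O hω'.qcoh hO (I.comap π) _ hI' φD
  let G := (Dual3.idealMul ((I.comap π) ^ n)).obj O
  have hG : Coh.IsCoh G := CohTwo.isCoh_idealMul _ O hO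
  haveI := hG.1
  have hpG : Coh.IsCoh ((Scheme.Modules.pushforward π).obj G) := Inter.isCoh_push_proper π hG
  haveI := hpG.1
  let φ0 := (Scheme.Modules.pushforward π).map ψ ≫ τ
  have hψapp : ∀ σ : Γ(G, π ⁻¹ᵁ D), ψ.app (π ⁻¹ᵁ D) σ =
      (show Γ(X', π ⁻¹ᵁ D) from (Dual3.idealMulι ((I.comap π) ^ n) O).app (π ⁻¹ᵁ D) σ) • s := fun σ =>
    (app_of_restrict_eq (Dual3.idealMulι _ O) ψ φD hψ le_rfl σ).trans (hφD _)
  have hφ0 : (Scheme.Modules.restrictFunctor D.ι).map φ0 = 0 := restrict_eq_zero φ0 hD fun σ => by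
    change τ.app D (ψ.app (π ⁻¹ᵁ D) σ) = 0
    rw [hψapp]
    exact h _
  obtain ⟨N, j, hj, hjψ⟩ := Groth.Agent.S9516.result X ω _ hωq hpG I D
    (CohTwo.coe_compl_support_complIdeal D) 0 (Dual3.idealMulι (I ^ 0) _ ≫ φ0) (by
      rw [Functor.map_comp, hφ0, comp_zero])
  obtain ⟨G1, θ, hθ⟩ := exists_goodStep π V D hV hcov hW (I ^ N) d hG
  obtain ⟨a, ha⟩ := hθ.factor
  have hθφ : (Scheme.Modules.pushforward π).map θ ≫ φ0 = 0 := by
    rw [← ha, ← hj, Category.assoc, Category.assoc, hjψ, comp_zero]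
  haveI := hθ.coh.1
  let C := chainG π V D hV hcov hW d hθ.coh
  have hCd : Coh.IsCoh (C d) := (chainC π V D hV hcov hW d hθ.coh d).2
  haveI := hCd.1
  haveI : (C 0).IsQuasicoherent := hθ.coh.1
  let c : C d ⟶ G1 := chainTo π V D hV hcov hW d hθ.coh d
  have hzero : c ≫ θ ≫ ψ = 0 := by
    obtain ⟨φ, -, huniq⟩ := hω'.existsUnique (C d) hCd.1 0
    refine (huniq _ fun x => ?_).trans (huniq 0 fun x => ?_).symm
    · rw [LinearMap.zero_apply, ← CohC3.hmap_comp]
      obtain ⟨e, he⟩ := exists_edge_eq π V hcov hV C (chainθ π V D hV hcov hW d hθ.coh) d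
        (chain_kills π V D hV hcov hW d hθ.coh) x
      have he' : edgeₗ π V hcov hV hπ G1 d e = CohC3.hmap k c d x := he
      rw [← he', ← edgeₗ_natural, ← hτ, CohC3.hmap_comp, Functor.map_comp, Category.assoc]
      rw [show (Scheme.Modules.pushforward π).map θ ≫ (Scheme.Modules.pushforward π).map ψ ≫ τ = 0 from hθφ,
        CohC3.hmap_zero, map_zero]
    · rw [LinearMap.zero_apply, CohC3.hmap_zero, map_zero]
  have hIn : ∀ y : X, y ∈ D → ∀ m : ℕ, y ∉ ((I ^ m).support : Set X) := fun y hy m =>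
    CohTwo.notMem_support_pow I (CohTwo.notMem_support_complIdeal D hy) m
  have hsurj : Function.Surjective ((c ≫ θ ≫ Dual3.idealMulι ((I.comap π) ^ n) O).app (π ⁻¹ᵁ D)) := by
    refine app_surjective_of_stalk _ hD' fun x hx => ?_
    rw [Functor.map_comp, Functor.map_comp, ConcreteCategory.coe_comp, ConcreteCategory.coe_comp]
    refine ((CohTwo.bijective_stalk_idealMulι _ O (comap_pow_support π I n
      (CohTwo.notMem_support_complIdeal D hx))).2.comp (hθ.bijective x hx (hIn _ hx N)).2).comp ?_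
    exact ((chainTo_prop π V D hV hcov hW d hθ.coh d).2.1 x hx).2
  obtain ⟨σ, hσ⟩ := hsurj (show Γ(O, π ⁻¹ᵁ D) from (1 : Γ(X', π ⁻¹ᵁ D)))
  have h1 : (c ≫ θ ≫ ψ).app (π ⁻¹ᵁ D) σ = s := by
    change ψ.app (π ⁻¹ᵁ D) ((c ≫ θ).app (π ⁻¹ᵁ D) σ) = s
    rw [hψapp]
    refine (congrArg (fun r : Γ(X', π ⁻¹ᵁ D) => r • s) (show (show Γ(X', π ⁻¹ᵁ D) from
      (Dual3.idealMulι ((I.comap π) ^ n) O).app (π ⁻¹ᵁ D) ((c ≫ θ).app (π ⁻¹ᵁ D) σ)) = 1 from hσ)).trans ?_
    exact one_smul _ s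
  rw [hzero] at h1
  exact h1.symm

set_option maxHeartbeats 1600000 in
include hπ hV hcov hD hW in
/-- Over an affine open where the morphism is an isomorphism, the trace is surjective on sections. -/
theorem surjective_trace [ω'.IsQuasicoherent] (hω : IsDualPair k ω t) (hω' : IsDualPair k ω' t')
    {τ : (Scheme.Modules.pushforward π).obj ω' ⟶ ω} (hτ : IsTrace π hπ V hV hcov t t' τ)
    (hiso : Function.Bijective (π.app D)) : Function.Surjective (τ.app D) := by
  intro s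
  have hD' : IsAffineOpen (π ⁻¹ᵁ D) := hW D hD le_rfl
  let O := Coh.structureModule X'
  have hO : Coh.IsCoh O := QCohMod.isCoh_unit
  haveI := hO.1
  let M := (Scheme.Modules.pushforward π).obj O
  have hM : Coh.IsCoh M := Inter.isCoh_push_proper π hO
  haveI := hM.1
  let e : Γ(X, D) ≃+* Γ(X', π ⁻¹ᵁ D) := RingEquiv.ofBijective (π.app D).hom hiso
  obtain ⟨φD, hφD⟩ := CohTwo.exists_hom_of_sections M ω hD
    { toFun := fun a : Γ(M, D) => e.symm (show Γ(X', π ⁻¹ᵁ D) from a) • s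
      map_add' := fun a b =>
        (congrArg (· • s) (e.symm.map_add (show Γ(X', π ⁻¹ᵁ D) from a) _)).trans (add_smul _ _ s)
      map_smul' := fun r a => by
        refine (congrArg (· • s) ((e.symm.map_mul (e r) (show Γ(X', π ⁻¹ᵁ D) from a)).trans
          (congrArg (· * _) (e.symm_apply_apply r)))).trans ?_
        exact mul_smul r _ s }
  let I := CohTwo.complIdeal D
  obtain ⟨r, ψ1, hψ1⟩ := Groth.Agent.S9515.result X ω M hω.qcoh hM I D
    (CohTwo.coe_compl_support_complIdeal D) φD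
  obtain ⟨G0, θ0, hθ0⟩ := exists_goodStep π V D hV hcov hW (I ^ r) d hO
  obtain ⟨a, ha⟩ := hθ0.factor
  let β := a ≫ ψ1
  have hβ : ∀ σ : Γ((Scheme.Modules.pushforward π).obj G0, D), β.app D σ =
      e.symm (show Γ(X', π ⁻¹ᵁ D) from θ0.app (π ⁻¹ᵁ D) σ) • s := fun σ => by
    refine ((app_of_restrict_eq (Dual3.idealMulι _ M) ψ1 φD hψ1 le_rfl (a.app D σ)).trans (hφD _)).trans ?_
    exact congrArg (fun y : Γ(X', π ⁻¹ᵁ D) => e.symm y • s) (congr(($ha).app D σ))
  let CA := chainG π V D hV hcov hW d hθ0.coh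
  have hA : Coh.IsCoh (CA d) := (chainC π V D hV hcov hW d hθ0.coh d).2
  haveI := hA.1
  haveI : (CA 0).IsQuasicoherent := hθ0.coh.1
  let cA : CA d ⟶ G0 := chainTo π V D hV hcov hW d hθ0.coh d
  let CB := chainG π V D hV hcov hW d hA
  have hB : Coh.IsCoh (CB d) := (chainC π V D hV hcov hW d hA d).2
  haveI := hB.1
  haveI : (CB 0).IsQuasicoherent := hA.1
  let cB : CB d ⟶ CA d := chainTo π V D hV hcov hW d hA d
  let γ := (Scheme.Modules.pushforward π).map cA ≫ β
  have hker : ∀ y, edgeₗ π V hcov hV hπ (CA d) d y = 0 → t (CohC3.hmap k γ d y) = 0 := fun y hy => by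
    rw [← CohC3.hmap_comp]
    have h0 : CohC3.hmap k ((Scheme.Modules.pushforward π).map cA) d y = 0 :=
      edge_kill π V hcov hV CA (chainθ π V D hV hcov hW d hθ0.coh) d
        (chain_kills π V D hV hcov hW d hθ0.coh) y hy
    rw [h0, map_zero, map_zero]
  have hex : ∀ x : Coh.HH X' (CB d) d, ∃ y, edgeₗ π V hcov hV hπ (CA d) d y = CohC3.hmap k cB d x :=
    exists_edge_eq π V hcov hV CB (chainθ π V D hV hcov hW d hA) d (chain_kills π V D hV hcov hW d hA)
  choose y hy using hex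
  have hwd : ∀ x z, edgeₗ π V hcov hV hπ (CA d) d z = CohC3.hmap k cB d x →
      t (CohC3.hmap k γ d z) = t (CohC3.hmap k γ d (y x)) := fun x z hz => by
    rw [← sub_eq_zero, ← map_sub, ← map_sub]
    exact hker _ (by rw [map_sub, hz, hy, sub_self])
  let lam : Coh.HH X' (CB d) d →ₗ[k] k :=
    { toFun := fun x => t (CohC3.hmap k γ d (y x))
      map_add' := fun x x' => by
        refine ((hwd (x + x') (y x + y x') ?_).symm).trans ?_
        · rw [map_add, hy, hy, map_add]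
        · rw [map_add, map_add]
      map_smul' := fun c x => by
        refine ((hwd (c • x) (c • y x) ?_).symm).trans ?_
        · rw [map_smul, hy, map_smul]
        · rw [map_smul, map_smul, RingHom.id_apply] }
  obtain ⟨ψ', hψ', -⟩ := hω'.existsUnique (CB d) hB.1 lam
  haveI := QCohMod.isQCoh_pushforward (CB d) π
  have heq : (Scheme.Modules.pushforward π).map ψ' ≫ τ = (Scheme.Modules.pushforward π).map cB ≫ γ := by
    obtain ⟨φ, -, huniq⟩ := hω.existsUnique _ (QCohMod.isQCoh_pushforward (CB d) π)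
      (lam.comp (edgeₗ π V hcov hV hπ (CB d) d))
    refine (huniq _ fun z => ?_).trans (huniq _ fun z => ?_).symm
    · rw [← CohC3.hmap_comp, hτ, edgeₗ_natural]
      exact hψ' _
    · rw [← CohC3.hmap_comp]
      exact (hwd _ _ (edgeₗ_natural π V hcov hV hπ cB d z)).symm
  have hsurj : Function.Surjective ((cB ≫ cA ≫ θ0).app (π ⁻¹ᵁ D)) := by
    refine app_surjective_of_stalk _ hD' fun x hx => ?_
    rw [Functor.map_comp, Functor.map_comp, ConcreteCategory.coe_comp, ConcreteCategory.coe_comp]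
    refine ((hθ0.bijective x hx (CohTwo.notMem_support_pow I (CohTwo.notMem_support_complIdeal D hx) r)).2.comp
      ((chainTo_prop π V D hV hcov hW d hθ0.coh d).2.1 x hx).2).comp ?_
    exact ((chainTo_prop π V D hV hcov hW d hA d).2.1 x hx).2
  obtain ⟨σ, hσ⟩ := hsurj (show Γ(O, π ⁻¹ᵁ D) from (1 : Γ(X', π ⁻¹ᵁ D)))
  refine ⟨(show Γ((Scheme.Modules.pushforward π).obj ω', D) from ψ'.app (π ⁻¹ᵁ D) σ), ?_⟩
  change ((Scheme.Modules.pushforward π).map ψ' ≫ τ).app D
    (show Γ((Scheme.Modules.pushforward π).obj (CB d), D) from σ) = s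
  rw [heq]
  refine (hβ ((cB ≫ cA).app (π ⁻¹ᵁ D) σ)).trans ?_
  refine (congrArg (fun y : Γ(X', π ⁻¹ᵁ D) => e.symm y • s) (show (show Γ(X', π ⁻¹ᵁ D) from
    θ0.app (π ⁻¹ᵁ D) ((cB ≫ cA).app (π ⁻¹ᵁ D) σ)) = 1 from hσ)).trans ?_
  rw [map_one, one_smul]

end Groth.DualMod
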