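import Groth.Agent.DualMod.Compare
import Groth.Agent.Lichtenbaum.AffineEmb
import Groth.Agent.Lichtenbaum.TopVanish
import Groth.Agent.Variety2.ProjDim
import Groth.Agent.S11314

/-! Finiteness of dual pairs. -/

set_option linter.style.haveILetI false
universe u

open CategoryTheory CategoryTheory.Limits AlgebraicGeometry TopologicalSpace Opposite
open Groth.CohBase Groth.Lichtenbaum

namespace Groth.DualMod

variable {X' X : Scheme.{u}} {k : Type u} [Field k]

/-- A finite affine cover. -/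
lemma exists_cover (X : Scheme.{u}) [AlgebraicGeometry.IsNoetherian X] :
    ∃ (ι : Type u) (_ : Finite ι) (V : ι → X.Opens), (∀ i, IsAffineOpen (V i)) ∧ ⨆ i, V i = ⊤ := by
  obtain ⟨s, hs⟩ := Groth.PropsBasic2.exists_finite_affine_cover X
  exact ⟨s, inferInstance, fun U => U.1.1, fun U => U.1.2, hs⟩

section Transfer

variable [X.Over (Spec (CommRingCat.of k))] [X'.Over (Spec (CommRingCat.of k))]
  (π : X' ⟶ X) [IsProper π] (hπ : π ≫ (X ↘ Spec (CommRingCat.of k)) = X' ↘ Spec (CommRingCat.of k))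
  [AlgebraicGeometry.IsNoetherian X] [X.IsSeparated] [AlgebraicGeometry.IsNoetherian X']
  {d : ℕ} {ω : X.Modules} {t : Coh.HH X ω d →ₗ[k] k} {ω' : X'.Modules} {t' : Coh.HH X' ω' d →ₗ[k] k}
  {D : X.Opens} (hD : IsAffineOpen D)
  (hW : ∀ D' : X.Opens, IsAffineOpen D' → D' ≤ D → IsAffineOpen (π ⁻¹ᵁ D'))

include hπ hD hW in
/-- Finiteness passes to the source over an open where the morphism is affine. -/
theorem finite_source (hω : IsDualPair k ω t) (hω' : IsDualPair k ω' t')
    (hfin : Module.Finite Γ(X, D) Γ(ω, D)) : Module.Finite Γ(X', π ⁻¹ᵁ D) Γ(ω', π ⁻¹ᵁ D) := by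
  haveI : ω'.IsQuasicoherent := hω'.qcoh
  obtain ⟨ι, hι, V, hV, hcov⟩ := exists_cover X
  obtain ⟨τ, hτ⟩ := exists_trace π hπ V hV hcov (t' := t') hω
  let O := Coh.structureModule X'
  have hO : Coh.IsCoh O := QCohMod.isCoh_unit
  let A := Γ((Scheme.Modules.pushforward π).obj O, D)
  let N := Γ((Scheme.Modules.pushforward π).obj ω', D)
  have hM := Inter.isCoh_push_proper π hO
  haveI := hM.1
  haveI : Module.Finite Γ(X, D) A := QCohMod.finite_sections _ hM.2 hD
  haveI : IsNoetherianRing Γ(X, D) := IsLocallyNoetherian.component_noetherian ⟨D, hD⟩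
  haveI : IsNoetherian Γ(X, D) (A →ₗ[Γ(X, D)] Γ(ω, D)) := isNoetherian_of_isNoetherianRing_of_finite _ _
  let act : Γ(X', π ⁻¹ᵁ D) → N → N := fun c (n : Γ(ω', π ⁻¹ᵁ D)) => c • n
  let Φ : N →ₗ[Γ(X, D)] (A →ₗ[Γ(X, D)] Γ(ω, D)) :=
    { toFun := fun n =>
        { toFun := fun a => τ.app D (act a n)
          map_add' := fun a b => (congrArg (τ.app D) (add_smul (R := Γ(X', π ⁻¹ᵁ D)) (M := Γ(ω', π ⁻¹ᵁ D)) a b n)).trans (map_add _ _ _)
          map_smul' := fun r a => by
            refine (congrArg (τ.app D) (mul_smul (α := Γ(X', π ⁻¹ᵁ D)) (β := Γ(ω', π ⁻¹ᵁ D)) (π.app D r) a n)).trans ?_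
            exact τ.app_smul r (act a n) }
      map_add' := fun n m => LinearMap.ext fun a =>
        (congrArg (τ.app D) (smul_add (M := Γ(X', π ⁻¹ᵁ D)) (A := Γ(ω', π ⁻¹ᵁ D)) a n m)).trans (map_add _ _ _)
      map_smul' := fun r n => LinearMap.ext fun a => by
        refine (congrArg (τ.app D) (smul_comm (M := Γ(X', π ⁻¹ᵁ D)) (N := Γ(X', π ⁻¹ᵁ D))
          (α := Γ(ω', π ⁻¹ᵁ D)) a (π.app D r) n)).trans ?_
        exact τ.app_smul r (act a n) }
  have hinj : Function.Injective Φ := (injective_iff_map_eq_zero Φ).2 fun n hn =>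
    eq_zero_of_trace π hπ V hV hcov hD hW hω' hτ hω.qcoh n fun a => congr($hn a)
  haveI : Module.Finite Γ(X, D) N := Module.Finite.of_injective Φ hinj
  obtain ⟨S, hS⟩ := (Module.Finite.fg_top : (⊤ : Submodule Γ(X, D) N).FG)
  refine ⟨⟨(show Finset Γ(ω', π ⁻¹ᵁ D) from S), eq_top_iff.2 fun n _ => ?_⟩⟩
  let T := Submodule.span Γ(X', π ⁻¹ᵁ D) ((show Finset Γ(ω', π ⁻¹ᵁ D) from S) : Set Γ(ω', π ⁻¹ᵁ D))
  change n ∈ T
  have hn : (show N from n) ∈ Submodule.span Γ(X, D) (S : Set N) := hS.ge trivial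
  refine Submodule.span_induction (R := Γ(X, D)) (M := N) (s := (S : Set N))
    (p := fun v _ => (show Γ(ω', π ⁻¹ᵁ D) from v) ∈ T) (fun v hv => Submodule.subset_span hv)
    T.zero_mem (fun a b _ _ ha hb => T.add_mem ha hb) (fun r v _ hv => T.smul_mem (π.app D r) hv) hn

include hπ hD hW in
/-- Finiteness passes to the target over an open where the morphism is an isomorphism. -/
theorem finite_target (hω : IsDualPair k ω t) (hω' : IsDualPair k ω' t')
    (hiso : Function.Bijective (π.app D))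
    (hfin : Module.Finite Γ(X', π ⁻¹ᵁ D) Γ(ω', π ⁻¹ᵁ D)) : Module.Finite Γ(X, D) Γ(ω, D) := by
  haveI : ω'.IsQuasicoherent := hω'.qcoh
  obtain ⟨ι, hι, V, hV, hcov⟩ := exists_cover X
  obtain ⟨τ, hτ⟩ := exists_trace π hπ V hV hcov (t' := t') hω
  let N := Γ((Scheme.Modules.pushforward π).obj ω', D)
  haveI : Module.Finite Γ(X, D) N := by
    obtain ⟨S, hS⟩ := (Module.Finite.fg_top : (⊤ : Submodule Γ(X', π ⁻¹ᵁ D) Γ(ω', π ⁻¹ᵁ D)).FG)
    refine ⟨⟨(show Finset N from S), eq_top_iff.2 fun n _ => ?_⟩⟩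
    let T := Submodule.span Γ(X, D) ((show Finset N from S) : Set N)
    change n ∈ T
    have hn : (show Γ(ω', π ⁻¹ᵁ D) from n) ∈ Submodule.span Γ(X', π ⁻¹ᵁ D) (S : Set Γ(ω', π ⁻¹ᵁ D)) :=
      hS.ge trivial
    refine Submodule.span_induction (R := Γ(X', π ⁻¹ᵁ D)) (M := Γ(ω', π ⁻¹ᵁ D)) (s := (S : Set Γ(ω', π ⁻¹ᵁ D)))
      (p := fun v _ => (show N from v) ∈ T) (fun v hv => Submodule.subset_span hv)
      T.zero_mem (fun a b _ _ ha hb => T.add_mem ha hb) (fun c v _ hv => ?_) hn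
    obtain ⟨r, rfl⟩ := hiso.2 c
    exact T.smul_mem r hv
  exact Module.Finite.of_surjective
    ({ toFun := fun n : N => τ.app D n
       map_add' := map_add _
       map_smul' := fun r x => τ.app_smul r x } : N →ₗ[Γ(X, D)] Γ(ω, D))
    (surjective_trace π hπ V hV hcov hD hW hω hω' hτ hiso)

end Transfer

/-- A dual pair on projective space is coherent. -/
theorem isCoh_dualPair_projSpace {d : ℕ} {ω : (CohB1.ProjSpace d k).Modules}
    {t : Coh.HH (CohB1.ProjSpace d k) ω d →ₗ[k] k} (hω : IsDualPair k ω t) : Coh.IsCoh ω := by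
  haveI := PnCoh.isLocallyNoetherian_projSpace d k
  haveI : CompactSpace (CohB1.ProjSpace d k) :=
    QuasiCompact.compactSpace_of_compactSpace (CohB1.ProjSpace.toSpec d k)
  haveI : AlgebraicGeometry.IsNoetherian (CohB1.ProjSpace d k) := {}
  let P := CohB1.ProjSpace d k
  haveI : ω.IsQuasicoherent := hω.qcoh
  obtain ⟨s, hs⟩ := Groth.Agent.S11314.result k d
  let L := Twist.twistProjSpace d k (-((d : ℤ) + 1))
  have hL : PicF.IsInvertible L := PnCoh.isInvertible_twist d k _
  have hLc : Coh.IsCoh L := PnCoh.isCoh_twist d k _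
  obtain ⟨γ, hγ, -⟩ := hω.existsUnique L hLc.1 s
  refine (QCohMod.isCoh_iff _).2 ⟨inferInstance, fun U hU => ?_⟩
  haveI := hLc.1
  haveI : Module.Finite Γ(P, U) Γ(L, U) := QCohMod.finite_sections L hLc.2 hU
  refine Module.Finite.of_surjective
    ({ toFun := fun n : Γ(L, U) => γ.app U n
       map_add' := map_add _
       map_smul' := fun r x => γ.app_smul r x } : Γ(L, U) →ₗ[Γ(P, U)] Γ(ω, U)) fun m => ?_
  classical
  obtain ⟨T, hT⟩ := Groth.PropsBasic2.exists_finite_affine_cover P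
  let W : Option T → P.Opens := fun o => o.elim U fun V => V.1.1
  obtain ⟨M, i, -, hM, hi⟩ := CohTwo.exists_coh_sub ω W
    (fun o => match o with
      | none => hU
      | some V => V.1.2)
    (fun x => by
      obtain ⟨V, hV⟩ := Opens.mem_iSup.1 (hT.ge (Opens.mem_top x))
      exact ⟨some V, hV⟩)
    (fun o => match o with
      | none => {m}
      | some _ => ∅)
  obtain ⟨m', hm'⟩ := hi none m (Finset.mem_singleton_self m)
  obtain ⟨φ, hφ, -⟩ := hs M hM (t.comp (CohC3.hmap k i d))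
  obtain ⟨φ0, -, huniq⟩ := hω.existsUnique M hM.1 (t.comp (CohC3.hmap k i d))
  have hfac : φ ≫ γ = i := by
    refine (huniq _ fun x => ?_).trans (huniq i fun x => rfl).symm
    rw [← CohC3.hmap_comp, ← hγ]
    exact hφ x
  exact ⟨φ.app U m', (congr(($hfac).app U m')).trans hm'⟩

/-- A scheme with a dense map from a scheme of dimension `≤ d` by a preimmersion has dimension `≤ d`. -/
theorem dim_le_of_denseRange {Y : Scheme.{u}} (fY : Y ⟶ Spec (CommRingCat.of k)) [LocallyOfFiniteType fY]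
    {D : Scheme.{u}} (fD : D ⟶ Spec (CommRingCat.of k)) [LocallyOfFiniteType fD] [NoetherianSpace D]
    (g : D ⟶ Y) [IsPreimmersion g] (hg : g ≫ fY = fD) (hdense : DenseRange g) {d : ℕ}
    (hd : topologicalKrullDim D ≤ d) : topologicalKrullDim Y ≤ d := by
  rw [Variety2.Dim.dim_eq_iSup_height]
  refine iSup_le fun y => ?_
  obtain ⟨S, hSf, hSc, hSi, hS⟩ :=
    NoetherianSpace.exists_finite_set_isClosed_irreducible (isClosed_univ : IsClosed (Set.univ : Set D))
  haveI : Finite S := hSf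
  choose η hη using fun s : S => QuasiSober.sober (hSi s.1 s.2) (hSc s.1 s.2)
  have hcl : (Set.univ : Set Y) ⊆ ⋃ s : S, closure {g (η s)} := by
    rw [← hdense.closure_range]
    refine closure_minimal ?_ (isClosed_iUnion_of_finite fun _ => isClosed_closure)
    rintro _ ⟨z, rfl⟩
    obtain ⟨s, hs, hzs⟩ := Set.mem_sUnion.1 (hS ▸ Set.mem_univ z : z ∈ ⋃₀ S)
    refine Set.mem_iUnion.2 ⟨⟨s, hs⟩, ?_⟩
    exact specializes_iff_mem_closure.1 (((hη ⟨s, hs⟩).specializes hzs).map g.continuous)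
  obtain ⟨s, hs⟩ := Set.mem_iUnion.1 (hcl (Set.mem_univ y))
  refine (WithBot.coe_le_coe.2 (Order.height_mono (show y ≤ g (η s) from specializes_iff_mem_closure.2 hs))).trans ?_
  rw [Variety2.Dim.height_eq_of_isPreimmersion fD fY g hg]
  exact ((le_iSup (fun z : D => ((Order.height z : ℕ∞) : WithBot ℕ∞)) (η s)).trans
    (Variety2.Dim.dim_eq_iSup_height D).symm.le).trans hd

/-- A separated morphism with a dominant open section over an open is an isomorphism over it. -/
theorem isIso_over_section {D G Y : Scheme.{u}} (g : D ⟶ G) [IsOpenImmersion g] (hg : DenseRange g)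
    (q : G ⟶ Y) [IsSeparated q] (O : Y.Opens) (e : D ⟶ O.toScheme) [IsIso e] (h : g ≫ q = e ≫ O.ι) :
    IsIso (q ∣_ O) ∧ g.opensRange = q ⁻¹ᵁ O := by
  have hle : Set.range g ⊆ Set.range (q ⁻¹ᵁ O).ι := by
    rw [Scheme.Opens.range_ι]
    rintro _ ⟨x, rfl⟩
    change q (g x) ∈ O
    rw [← Scheme.Hom.comp_apply, h, Scheme.Hom.comp_apply]
    exact (e x).2
  let s : D ⟶ (q ⁻¹ᵁ O).toScheme := IsOpenImmersion.lift (q ⁻¹ᵁ O).ι g hle
  have hs : s ≫ (q ⁻¹ᵁ O).ι = g := IsOpenImmersion.lift_fac _ _ _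
  have hsq : s ≫ (q ∣_ O) = e := by
    rw [← cancel_mono O.ι, Category.assoc, morphismRestrict_ι, ← Category.assoc, hs, h]
  haveI : IsClosedImmersion (s ≫ (q ∣_ O)) := hsq ▸ inferInstance
  haveI : IsClosedImmersion s := IsClosedImmersion.of_comp s (q ∣_ O)
  haveI : IsOpenImmersion (s ≫ (q ⁻¹ᵁ O).ι) := hs.symm ▸ inferInstance
  haveI : IsOpenImmersion s := IsOpenImmersion.of_comp s (q ⁻¹ᵁ O).ι
  haveI : Surjective s := ⟨fun z => by
    by_contra hz
    have hopen : IsOpen ((q ⁻¹ᵁ O).ι '' (Set.range s)ᶜ) :=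
      (q ⁻¹ᵁ O).ι.isOpenEmbedding.isOpenMap _ s.isClosedEmbedding.isClosed_range.isOpen_compl
    obtain ⟨_, ⟨w, hw, hwx⟩, x, rfl⟩ := hg.inter_open_nonempty _ hopen ⟨_, z, hz, rfl⟩
    refine hw ⟨x, (q ⁻¹ᵁ O).ι.isOpenEmbedding.injective ?_⟩
    rw [← Scheme.Hom.comp_apply, hs, hwx]⟩
  haveI : IsIso s := (isIso_iff_isOpenImmersion_and_surjective s).2 ⟨inferInstance, inferInstance⟩
  refine ⟨?_, Opens.ext ?_⟩
  · haveI : IsIso (s ≫ (q ∣_ O)) := hsq ▸ inferInstance
    exact IsIso.of_isIso_comp_left s _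
  · refine subset_antisymm (fun z hz => Scheme.Opens.range_ι (q ⁻¹ᵁ O) ▸ hle hz) fun z hz => ?_
    obtain ⟨x, hx⟩ := s.surjective ⟨z, hz⟩
    refine ⟨x, ?_⟩
    rw [← hs, Scheme.Hom.comp_apply, hx]
    rfl

/-- Consequences of being an isomorphism over an open. -/
theorem affine_and_bijective_of_isIso {G Y : Scheme.{u}} (q : G ⟶ Y) (O : Y.Opens) [IsIso (q ∣_ O)] :
    (∀ O' : Y.Opens, IsAffineOpen O' → O' ≤ O → IsAffineOpen (q ⁻¹ᵁ O')) ∧
      Function.Bijective (q.app O) := by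
  refine ⟨fun O' hO' hle => ?_, ?_⟩
  · have h3 : IsAffineOpen (O.ι ⁻¹ᵁ O') := by
      refine O.ι.isAffineOpen_iff_of_isOpenImmersion.1 ?_
      rw [Scheme.Hom.image_preimage_eq_opensRange_inf, Scheme.Opens.opensRange_ι, inf_eq_right.2 hle]
      exact hO'
    have h4 := ((h3.preimage_of_isIso (q ∣_ O)).image_of_isOpenImmersion (q ⁻¹ᵁ O).ι)
    rwa [image_morphismRestrict_preimage, Scheme.Hom.image_preimage_eq_opensRange_inf,
      Scheme.Opens.opensRange_ι, inf_eq_right.2 hle] at h4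
  · haveI := (inferInstance : IsIso ((q ∣_ O).app ⊤))
    rw [morphismRestrict_app] at this
    have h2 := (ConcreteCategory.isIso_iff_bijective _).1 this
    have h3 : Function.Bijective (q.app (O.ι ''ᵁ ⊤)) :=
      (Function.Bijective.of_comp_iff' (ConcreteCategory.bijective_of_isIso
        (G.presheaf.map (eqToHom (image_morphismRestrict_preimage q O ⊤)).op)) _).1 h2
    exact O.ι_image_top ▸ h3

set_option maxHeartbeats 1600000 in
/-- A dual pair on a closed subscheme of projective space is coherent. -/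
theorem isCoh_dualPair_projective {U : Scheme.{u}} [U.Over (Spec (CommRingCat.of k))]
    [AlgebraicGeometry.IsNoetherian U] {M : ℕ} (c : U ⟶ CohB1.ProjSpace M k) [IsClosedImmersion c]
    (hc : c ≫ CohB1.ProjSpace.toSpec M k = U ↘ Spec (CommRingCat.of k)) {d : ℕ}
    (hd : topologicalKrullDim U ≤ d) {ω : U.Modules} {t : Coh.HH U ω d →ₗ[k] k}
    (hω : IsDualPair k ω t) : Coh.IsCoh ω := by
  obtain ⟨φ, hφ, hφf⟩ := exists_finite_to_projSpace c d hd
  haveI := hφ
  haveI := PnCoh.isLocallyNoetherian_projSpace d k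
  haveI : CompactSpace (CohB1.ProjSpace d k) :=
    QuasiCompact.compactSpace_of_compactSpace (CohB1.ProjSpace.toSpec d k)
  haveI : AlgebraicGeometry.IsNoetherian (CohB1.ProjSpace d k) := {}
  haveI : (CohB1.ProjSpace d k).IsSeparated := isSeparated_of_field (CohB1.ProjSpace.toSpec d k)
  obtain ⟨ωP, tP, hP⟩ := exists_dualPair (X := CohB1.ProjSpace d k) k (d := d)
    (le_of_eq Variety2.PSpace.dim_projSpace)
  have hPc := isCoh_dualPair_projSpace hP
  haveI := hPc.1
  haveI : ω.IsQuasicoherent := hω.qcoh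
  refine ⟨inferInstance, QCohMod.isFT_of_affine_cover ω fun x => ?_⟩
  obtain ⟨W, hW, hxW⟩ := QCohMod.exists_affine_mem (φ x)
  exact ⟨φ ⁻¹ᵁ W, hW.preimage φ, hxW, finite_source φ (hφf.trans hc) hW (fun D' hD' _ => hD'.preimage φ) hP hω
    (QCohMod.finite_sections ωP hPc.2 hW)⟩

set_option maxHeartbeats 1600000 in
/-- A dual pair on a proper scheme is coherent. -/
theorem isCoh_dualPair [X.Over (Spec (CommRingCat.of k))] [IsProper (X ↘ Spec (CommRingCat.of k))]
    [AlgebraicGeometry.IsNoetherian X] [X.IsSeparated] {d : ℕ} (hd : topologicalKrullDim X ≤ d)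
    {ω : X.Modules} {t : Coh.HH X ω d →ₗ[k] k} (hω : IsDualPair k ω t) : Coh.IsCoh ω := by
  refine (QCohMod.isCoh_iff _).2 ⟨hω.qcoh, fun D hD => ?_⟩
  let S := Spec (CommRingCat.of k)
  let fX := X ↘ S
  let fD := D.ι ≫ fX
  haveI : IsAffine D.toScheme := hD
  haveI : LocallyOfFiniteType fD := inferInstanceAs (LocallyOfFiniteType (D.ι ≫ fX))
  obtain ⟨N, j0, hj0, hj0f⟩ := Chow.exists_immersion_projSpaceOver fD
  haveI := hj0
  let j : D.toScheme ⟶ CohB1.ProjSpace N k := j0 ≫ (PnCoh.overIso N k).inv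
  haveI : IsImmersion j := inferInstanceAs (IsImmersion (j0 ≫ (PnCoh.overIso N k).inv))
  have hjf : j ≫ CohB1.ProjSpace.toSpec N k = fD := by
    rw [← PnCoh.overIso_hom_toBase, Category.assoc, Iso.inv_hom_id_assoc, hj0f]
  haveI : QuasiCompact fD := inferInstance
  haveI : QuasiCompact (j ≫ CohB1.ProjSpace.toSpec N k) := hjf.symm ▸ inferInstance
  haveI : QuasiCompact j := QuasiCompact.of_comp j (CohB1.ProjSpace.toSpec N k)
  -- the projective closure
  let U := j.image
  letI : U.Over S := ⟨j.imageι ≫ CohB1.ProjSpace.toSpec N k⟩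
  let fU := U ↘ S
  haveI : IsProper fU := inferInstanceAs (IsProper (j.imageι ≫ _))
  haveI : AlgebraicGeometry.IsNoetherian U := isNoetherian_of_field fU
  haveI : U.IsSeparated := isSeparated_of_field fU
  let jU := j.toImage
  haveI : IsOpenImmersion jU := inferInstanceAs (IsOpenImmersion j.toImage)
  have hjU : jU ≫ fU = fD := by
    change j.toImage ≫ j.imageι ≫ _ = _
    rw [← Category.assoc, Scheme.Hom.toImage_imageι, hjf]
  have hdD : topologicalKrullDim D.toScheme ≤ d :=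
    (SpectralTopology.dim_le_of_subset (Set.subset_univ (D : Set X))).trans
      ((IsHomeomorph.topologicalKrullDim_eq _ (Homeomorph.Set.univ X).isHomeomorph).le.trans hd)
  haveI : AlgebraicGeometry.IsNoetherian D.toScheme := isNoetherian_of_field fD
  have hdU : topologicalKrullDim U ≤ d := dim_le_of_denseRange fU fD jU hjU jU.denseRange hdD
  -- the graph
  let h : D.toScheme ⟶ pullback fX fU := pullback.lift D.ι jU hjU.symm
  haveI : IsImmersion h := by
    haveI : IsImmersion (h ≫ pullback.fst fX fU) := by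
      rw [pullback.lift_fst]
      infer_instance
    exact IsImmersion.of_comp h (pullback.fst fX fU)
  haveI : IsProper (pullback.fst fX fU ≫ fX) := inferInstance
  haveI : QuasiCompact (h ≫ pullback.fst fX fU ≫ fX) := by
    rw [pullback.lift_fst_assoc]
    infer_instance
  haveI : QuasiCompact h := QuasiCompact.of_comp h (pullback.fst fX fU ≫ fX)
  let G := h.image
  let p : G ⟶ X := h.imageι ≫ pullback.fst fX fU
  let q : G ⟶ U := h.imageι ≫ pullback.snd fX fU
  haveI : IsProper p := inferInstanceAs (IsProper (h.imageι ≫ pullback.fst fX fU))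
  haveI : IsProper q := inferInstanceAs (IsProper (h.imageι ≫ pullback.snd fX fU))
  letI : G.Over S := ⟨p ≫ fX⟩
  let fG := G ↘ S
  haveI : IsProper fG := inferInstanceAs (IsProper (p ≫ fX))
  haveI : AlgebraicGeometry.IsNoetherian G := isNoetherian_of_field fG
  haveI : G.IsSeparated := isSeparated_of_field fG
  have hq : q ≫ fU = fG := by
    change (h.imageι ≫ _) ≫ fU = (h.imageι ≫ _) ≫ fX
    rw [Category.assoc, Category.assoc, pullback.condition]
  let g := h.toImage
  haveI : IsOpenImmersion g := inferInstanceAs (IsOpenImmersion h.toImage)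
  have hgp : g ≫ p = D.ι := by
    change h.toImage ≫ h.imageι ≫ _ = _
    rw [← Category.assoc, Scheme.Hom.toImage_imageι, pullback.lift_fst]
  have hgq : g ≫ q = jU := by
    change h.toImage ≫ h.imageι ≫ _ = _
    rw [← Category.assoc, Scheme.Hom.toImage_imageι, pullback.lift_snd]
  obtain ⟨hisoP, hrangeP⟩ := isIso_over_section g g.denseRange p D (𝟙 _)
    (by rw [hgp, Category.id_comp])
  obtain ⟨hisoQ, hrangeQ⟩ := isIso_over_section g g.denseRange q jU.opensRange jU.isoOpensRange.hom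
    (by rw [hgq, Scheme.Hom.isoOpensRange_hom_ι])
  have hdG : topologicalKrullDim G ≤ d := dim_le_of_denseRange fG fD g
    (by change g ≫ p ≫ fX = fD; rw [← Category.assoc, hgp]) g.denseRange hdD
  obtain ⟨ωU, tU, hU⟩ := exists_dualPair (X := U) k hdU
  obtain ⟨ωG, tG, hG⟩ := exists_dualPair (X := G) k hdG
  have hUc := isCoh_dualPair_projective j.imageι rfl hdU hU
  haveI := hUc.1
  have hO : IsAffineOpen jU.opensRange := isAffineOpen_opensRange jU
  have h1 := finite_source q hq hO (affine_and_bijective_of_isIso q jU.opensRange).1 hU hG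
    (QCohMod.finite_sections ωU hUc.2 hO)
  rw [← hrangeQ, hrangeP] at h1
  exact finite_target p rfl hD (affine_and_bijective_of_isIso p D).1 hω hG
    (affine_and_bijective_of_isIso p D).2 h1

end Groth.DualMod
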