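import Groth.Agent.S0919
import Groth.Agent.QCohMod.QCohCatAbelian
import Groth.Agent.FlatMor2.ColimCoh.Space
import Groth.Agent.Inter.Vanishing
import Groth.Agent.CohC3.HMap
import Groth.Agent.CohBase.GlobalSections
import Groth.Agent.FunMorFP.Extension
import Mathlib.Algebra.Category.ModuleCat.Colimits

/-! The dual of the top cohomology on quasi-coherent modules is representable. -/

set_option linter.style.haveILetI false
universe u

open CategoryTheory CategoryTheory.Limits AlgebraicGeometry TopologicalSpace Opposite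
open Groth.CohBase

namespace Groth.DualMod

variable (k : Type u) [Field k] {X : Scheme.{u}} [X.Over (Spec (CommRingCat.of k))]

/-- A quasi-coherent module with a functional on `H^d` representing the duals of `H^d` of
quasi-coherent modules. -/
structure IsDualPair {d : ℕ} (ω : X.Modules) (t : Coh.HH X ω d →ₗ[k] k) : Prop where
  qcoh : Coh.IsQCoh ω
  existsUnique : ∀ F : X.Modules, Coh.IsQCoh F → ∀ ψ : Coh.HH X F d →ₗ[k] k,
    ∃! φ : F ⟶ ω, ∀ x : Coh.HH X F d, ψ x = t (CohC3.hmap k φ d x)

variable (X) in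
/-- Top cohomology on quasi-coherent modules. -/
noncomputable def HF (n : ℕ) : QCohCat.QCoh X ⥤ ModuleCat.{u} k where
  obj M := ModuleCat.of k (Coh.HH X M.obj n)
  map φ := ModuleCat.ofHom (CohC3.hmap k φ.hom n)
  map_id M := ModuleCat.hom_ext (LinearMap.ext fun x => CohC3.hmap_id (A := k) M.obj n x)
  map_comp φ ψ := ModuleCat.hom_ext (LinearMap.ext fun x => (CohC3.hmap_comp (A := k) φ.hom ψ.hom n x).symm)

/-- Cohomology in the top degree is right exact. -/
theorem preservesFiniteColimits_functorH [AlgebraicGeometry.IsNoetherian X] {d : ℕ}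
    (hd : topologicalKrullDim X ≤ d) :
    PreservesFiniteColimits (Sheaf.functorH (Opens.grothendieckTopology X.toTopCat) d :
      AbSheaf X.toTopCat ⥤ AddCommGrpCat.{u}) := by
  refine (((Functor.preservesFiniteColimits_tfae
    (Sheaf.functorH (Opens.grothendieckTopology X.toTopCat) d : AbSheaf X.toTopCat ⥤ AddCommGrpCat.{u})).out 0 3
      rfl rfl).1) ?_
  intro S hS
  constructor
  · refine (ShortComplex.ab_exact_iff_function_exact _).2 ?_
    exact EulerDeg.hMap_exact_mid (f := S.f) (g := S.g) (w₀ := S.zero) hS d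
  · refine (AddCommGrpCat.epi_iff_surjective _).2 fun y => ?_
    have := Inter.Vanishing.subsingleton_H_of_dim_le hd S.X₁ (d + 1) (Nat.lt_succ_self d)
    exact (EulerDeg.hMap_exact_right (f := S.f) (g := S.g) (w₀ := S.zero) hS d y).1
      (@Subsingleton.elim _ this _ _)

/-- Cohomology commutes with filtered colimits. -/
theorem preservesColimitsOfShape_functorH [CompactSpace X] [X.IsSeparated] (d : ℕ) (J : Type u)
    [SmallCategory J] [IsFiltered J] :
    PreservesColimitsOfShape J (Sheaf.functorH (Opens.grothendieckTopology X.toTopCat) d :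
      AbSheaf X.toTopCat ⥤ AddCommGrpCat.{u}) := by
  haveI : PrespectralSpace X.toTopCat := inferInstanceAs (PrespectralSpace X)
  haveI : QuasiSeparatedSpace X := inferInstance
  let e : (Sheaf.cohomologyPresheafFunctor (Opens.grothendieckTopology X.toTopCat) d).flip.obj (op ⊤) ≅
      (Sheaf.functorH (Opens.grothendieckTopology X.toTopCat) d : AbSheaf X.toTopCat ⥤ AddCommGrpCat.{u}) :=
    (NatIso.ofComponents (fun F => AddEquiv.toAddCommGrpIso (equivHTop (X := X.toTopCat) F d))
      fun φ => by
        ext x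
        exact equivHTop_map (X := X.toTopCat) φ d x).symm
  refine ⟨fun {F} => ?_⟩
  haveI := FlatMor2.ColimCoh.preservesColimit_HU_space (X := X.toTopCat) ⊤
    (by simpa using (isCompact_univ : IsCompact (Set.univ : Set X)))
    (by simpa using (isQuasiSeparated_univ : IsQuasiSeparated (Set.univ : Set X))) d F
  exact preservesColimit_of_natIso F e

variable [AlgebraicGeometry.IsNoetherian X] [X.IsSeparated]

/-- Cohomology in the top degree commutes with colimits. -/
theorem preservesColimits_HF {d : ℕ} (hd : topologicalKrullDim X ≤ d) :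
    PreservesColimitsOfSize.{u, u} (HF k X d) := by
  haveI := preservesFiniteColimits_functorH (X := X) hd
  let H : AbSheaf X.toTopCat ⥤ AddCommGrpCat.{u} := Sheaf.functorH (Opens.grothendieckTopology X.toTopCat) d
  haveI : ∀ J : Type u, PreservesColimitsOfShape (Discrete J) H := fun J => by
    classical
    haveI := preservesColimitsOfShape_functorH (X := X) d (Finset (Discrete J))
    exact FunMorFP.preservesColimitsOfShape_discrete H
  haveI : PreservesColimitsOfSize.{u, u} H :=
    preservesColimits_of_preservesCoequalizers_and_coproducts H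
  haveI : PreservesColimitsOfSize.{u, u} (toAbF X) :=
    ⟨fun {K} _ => QCohMod.preservesColimitsOfShape_toSheaf X.ringCatSheaf K⟩
  haveI : PreservesColimitsOfSize.{u, u} (HF k X d ⋙ forget₂ (ModuleCat.{u} k) AddCommGrpCat.{u}) :=
    preservesColimits_of_natIso
      (NatIso.ofComponents (fun M => Iso.refl _) :
        (QCohCat.isQCoh X).ι ⋙ toAbF X ⋙ H ≅ HF k X d ⋙ forget₂ (ModuleCat.{u} k) AddCommGrpCat.{u})
  haveI : PreservesColimitsOfSize.{u, u} (forget₂ (ModuleCat.{u} k) AddCommGrpCat.{u}) := inferInstance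
  haveI : ReflectsColimitsOfSize.{u, u} (forget₂ (ModuleCat.{u} k) AddCommGrpCat.{u}) :=
    reflectsColimits_of_reflectsIsomorphisms
  exact preservesColimits_of_reflects_of_preserves (HF k X d) (forget₂ (ModuleCat.{u} k) AddCommGrpCat.{u})

/-- There is a dual pair. -/
theorem exists_dualPair {d : ℕ} (hd : topologicalKrullDim X ≤ d) :
    ∃ (ω : X.Modules) (t : Coh.HH X ω d →ₗ[k] k), IsDualPair k ω t := by
  haveI := preservesColimits_HF k hd
  let F : (QCohCat.QCoh X)ᵒᵖ ⥤ Type u := (HF k X d).op ⋙ yoneda.obj (ModuleCat.of k k)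
  haveI : PreservesLimitsOfSize.{u, u} (HF k X d).op := preservesLimits_op _
  haveI : PreservesLimitsOfSize.{u, u} F := inferInstance
  haveI : F.IsRepresentable := (Groth.Agent.S0919.result F).2 inferInstance
  let R := F.representableBy
  let ω := F.reprX
  let t : Coh.HH X ω.obj d →ₗ[k] k := ModuleCat.Hom.hom (show (HF k X d).obj ω ⟶ ModuleCat.of k k from R.homEquiv (𝟙 ω))
  have key : ∀ {M : QCohCat.QCoh X} (φ : M ⟶ ω) (x : Coh.HH X M.obj d),
      ModuleCat.Hom.hom (show (HF k X d).obj M ⟶ ModuleCat.of k k from R.homEquiv φ) x =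
        t (CohC3.hmap k φ.hom d x) := by
    intro M φ x
    rw [R.homEquiv_eq φ]
    rfl
  refine ⟨ω.obj, t, ⟨ω.2, fun M hM ψ => ?_⟩⟩
  let M' : QCohCat.QCoh X := ⟨M, hM⟩
  let φ := R.homEquiv.symm (show F.obj (op M') from ModuleCat.ofHom ψ)
  refine ⟨φ.hom, fun x => ?_, fun φ' hφ' => ?_⟩
  · refine Eq.trans ?_ (key φ x)
    rw [Equiv.apply_symm_apply]
    rfl
  · have : (ObjectProperty.homMk φ' : M' ⟶ ω) = φ := by
      apply R.homEquiv.injective
      refine ModuleCat.hom_ext (LinearMap.ext fun x => ?_)
      rw [Equiv.apply_symm_apply]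
      exact (key (ObjectProperty.homMk φ' : M' ⟶ ω) x).trans (hφ' x).symm
    exact congrArg (fun f : M' ⟶ ω => f.hom) this

end Groth.DualMod
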