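import Groth.Agent.DualMod.Rep
import Groth.Agent.Limits.FibreVanishingGeneral
import Groth.Agent.SpectralTopology.Dim

/-! The dual of the top cohomology of a proper scheme over a ring is representable. -/

set_option linter.style.haveILetI false
universe u

open CategoryTheory CategoryTheory.Limits AlgebraicGeometry TopologicalSpace Opposite
open Groth.CohBase

namespace Groth.DualMod

/-- A space all of whose components have dimension at most `n` has dimension at most `n`. -/
theorem topologicalKrullDim_le_of_components {T : Type*} [TopologicalSpace T] {n : ℕ}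
    (h : ∀ Z ∈ irreducibleComponents T, topologicalKrullDim ↥Z ≤ (n : WithBot ℕ∞)) :
    topologicalKrullDim T ≤ (n : WithBot ℕ∞) := by
  rw [Groth.SpectralTopology.topologicalKrullDim_eq_iSup_of_closed
    (fun Z : irreducibleComponents T => Z.1) (fun Z => by
      obtain ⟨C, hC, hZC⟩ := exists_mem_irreducibleComponents_subset_of_isIrreducible (Z : Set T) Z.isIrreducible
      exact ⟨⟨C, hC⟩, hZC⟩)]
  exact iSup_le fun Z => h Z.1 Z.2

variable (A : Type u) [CommRing A] {X : Scheme.{u}} [X.Over (Spec (CommRingCat.of A))]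

variable (X) in
/-- Cohomology on quasi-coherent modules. -/
noncomputable def HFA (n : ℕ) : QCohCat.QCoh X ⥤ ModuleCat.{u} A where
  obj M := ModuleCat.of A (Coh.HH X M.obj n)
  map φ := ModuleCat.ofHom (CohC3.hmap A φ.hom n)
  map_id M := ModuleCat.hom_ext (LinearMap.ext fun x => CohC3.hmap_id (A := A) M.obj n x)
  map_comp φ ψ := ModuleCat.hom_ext (LinearMap.ext fun x => (CohC3.hmap_comp (A := A) φ.hom ψ.hom n x).symm)

variable [IsProper (X ↘ Spec (CommRingCat.of A))]

/-- Cohomology in the top degree commutes with colimits. -/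
theorem preservesColimits_HFA {n : ℕ}
    (hd : ∀ P, topologicalKrullDim ↥((X ↘ Spec (CommRingCat.of A)).fiber P) ≤ n) :
    PreservesColimitsOfSize.{u, u} (HFA A X n) := by
  haveI : X.IsSeparated := CohFin.isSeparated_of_proper (X ↘ Spec (CommRingCat.of A))
  haveI : CompactSpace X := CohFin.compactSpace_of_proper (X ↘ Spec (CommRingCat.of A))
  let H : AbSheaf X.toTopCat ⥤ AddCommGrpCat.{u} := Sheaf.functorH (Opens.grothendieckTopology X.toTopCat) n
  haveI : PreservesColimitsOfSize.{u, u} (toAbF X) :=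
    ⟨fun {K} _ => QCohMod.preservesColimitsOfShape_toSheaf X.ringCatSheaf K⟩
  let E : QCohCat.QCoh X ⥤ AbSheaf X.toTopCat := (QCohCat.isQCoh X).ι ⋙ toAbF X
  haveI : PreservesFiniteColimits (E ⋙ H) := by
    refine (((Functor.preservesFiniteColimits_tfae (E ⋙ H)).out 0 3 rfl rfl).1) ?_
    intro S hS
    have hS' : (S.map (QCohCat.isQCoh X).ι).ShortExact := hS.map_of_exact _
    have hS'' : ((S.map (QCohCat.isQCoh X).ι).map (toAbF X)).ShortExact := shortExact_toAb hS'
    haveI : (S.X₁.obj).IsQuasicoherent := S.X₁.2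
    constructor
    · refine (ShortComplex.ab_exact_iff_function_exact _).2 ?_
      exact EulerDeg.hMap_exact_mid (w₀ := ((S.map (QCohCat.isQCoh X).ι).map (toAbF X)).zero) hS'' n
    · refine (AddCommGrpCat.epi_iff_surjective _).2 fun y => ?_
      have := Groth.Limits.FibreVanishing.subsingleton_HH_of_dim_fiber_le n hd S.X₁.obj (n + 1)
        (Nat.lt_succ_self n)
      exact (EulerDeg.hMap_exact_right (w₀ := ((S.map (QCohCat.isQCoh X).ι).map (toAbF X)).zero) hS'' n y).1
        (@Subsingleton.elim _ this _ _)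
  haveI : ∀ J : Type u, PreservesColimitsOfShape (Discrete J) (E ⋙ H) := fun J => by
    classical
    haveI := preservesColimitsOfShape_functorH (X := X) n (Finset (Discrete J))
    exact FunMorFP.preservesColimitsOfShape_discrete (E ⋙ H)
  haveI : PreservesColimitsOfSize.{u, u} (E ⋙ H) :=
    preservesColimits_of_preservesCoequalizers_and_coproducts (E ⋙ H)
  haveI : PreservesColimitsOfSize.{u, u} (HFA A X n ⋙ forget₂ (ModuleCat.{u} A) AddCommGrpCat.{u}) :=
    preservesColimits_of_natIso
      (NatIso.ofComponents (fun M => Iso.refl _) :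
        E ⋙ H ≅ HFA A X n ⋙ forget₂ (ModuleCat.{u} A) AddCommGrpCat.{u})
  haveI : PreservesColimitsOfSize.{u, u} (forget₂ (ModuleCat.{u} A) AddCommGrpCat.{u}) := inferInstance
  haveI : ReflectsColimitsOfSize.{u, u} (forget₂ (ModuleCat.{u} A) AddCommGrpCat.{u}) :=
    reflectsColimits_of_reflectsIsomorphisms
  exact preservesColimits_of_reflects_of_preserves (HFA A X n) (forget₂ (ModuleCat.{u} A) AddCommGrpCat.{u})

/-- There is a pair representing the functionals on top cohomology. -/
theorem exists_dualPairA {n : ℕ}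
    (hd : ∀ P, topologicalKrullDim ↥((X ↘ Spec (CommRingCat.of A)).fiber P) ≤ n) :
    ∃ (ω : X.Modules) (γ : Coh.HH X ω n →ₗ[A] A), Coh.IsQCoh ω ∧
      ∀ F : X.Modules, Coh.IsQCoh F → ∀ g : Coh.HH X F n →ₗ[A] A,
        ∃! φ : F ⟶ ω, ∀ x : Coh.HH X F n, γ (CohC3.hmap A φ n x) = g x := by
  haveI := preservesColimits_HFA A hd
  let F : (QCohCat.QCoh X)ᵒᵖ ⥤ Type u := (HFA A X n).op ⋙ yoneda.obj (ModuleCat.of A A)
  haveI : PreservesLimitsOfSize.{u, u} (HFA A X n).op := preservesLimits_op _
  haveI : PreservesLimitsOfSize.{u, u} F := inferInstance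
  haveI : F.IsRepresentable := (Groth.Agent.S0919.result F).2 inferInstance
  let R := F.representableBy
  let ω := F.reprX
  let t : Coh.HH X ω.obj n →ₗ[A] A :=
    ModuleCat.Hom.hom (show (HFA A X n).obj ω ⟶ ModuleCat.of A A from R.homEquiv (𝟙 ω))
  have key : ∀ {M : QCohCat.QCoh X} (φ : M ⟶ ω) (x : Coh.HH X M.obj n),
      ModuleCat.Hom.hom (show (HFA A X n).obj M ⟶ ModuleCat.of A A from R.homEquiv φ) x =
        t (CohC3.hmap A φ.hom n x) := by
    intro M φ x
    rw [R.homEquiv_eq φ]
    rfl
  refine ⟨ω.obj, t, ω.2, fun M hM ψ => ?_⟩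
  let M' : QCohCat.QCoh X := ⟨M, hM⟩
  let φ := R.homEquiv.symm (show F.obj (op M') from ModuleCat.ofHom ψ)
  refine ⟨φ.hom, fun x => ?_, fun φ' hφ' => ?_⟩
  · refine (key φ x).symm.trans ?_
    rw [Equiv.apply_symm_apply]
    rfl
  · have : (ObjectProperty.homMk φ' : M' ⟶ ω) = φ := by
      apply R.homEquiv.injective
      refine ModuleCat.hom_ext (LinearMap.ext fun x => ?_)
      rw [Equiv.apply_symm_apply]
      exact (key (ObjectProperty.homMk φ' : M' ⟶ ω) x).trans (hφ' x)
    exact congrArg (fun f : M' ⟶ ω => f.hom) this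

end Groth.DualMod
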